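import Cfsg.Agent.Lib.J2.Mod
import Cfsg.Agent.Lib.Cert.Mat
import Cfsg.Agent.Lib.Cert.Sch4

/-! The Hall–Janko group: names for the certificate tools, and the double cover. -/

set_option autoImplicit false
set_option maxRecDepth 100000

namespace Cfsg.Agent.Ct.J2

open Cfsg.Spor Cfsg.Agent.PC Cfsg.Agent.Fi Cfsg.Agent.Ct Cfsg.Agent.J2 Quaternion

open scoped Pointwise in
noncomputable instance act : MulAction Spor.J2 (Set (CX twoJ2)) := inferInstance
noncomputable abbrev pt := pt2
noncomputable abbrev al := Agent.J2.al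
noncomputable abbrev T := TB
theorem md0 : Md pt 100 B0 al T 4 := Agent.J2.md0
theorem top : gen al 4 = ⊤ := Agent.J2.top
theorem card : Nat.card Spor.J2 = 604800 := Agent.J2.card
instance simple : IsSimpleGroup Spor.J2 := Agent.J2.simple
theorem ctr : Subgroup.center Spor.J2 = ⊥ := ctr_bot card (by norm_num) (by decide)

noncomputable def F (w : List ℕ) (v : V3) : V3 := w.foldl (fun x j => (x.sm 8).sub (V3.lm (x.ip (R (gi j))) (R (gi j)))) v

theorem F_ok (w : List ℕ) (hw : ∀ j ∈ w, j < 4) (x : icoLeech) (v : V3) (k : ℝ) (h : Ph v = k • x.1) :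
    Ph (F w v) = (8 ^ w.length * k) • ((ev (fun j => rr (gi j)) w : twoJ2).1 x).1 := by
  induction w generalizing x v k with
  | nil => simpa [F] using h
  | cons j w ih =>
    have := ih (fun i hi => hw i (List.mem_cons_of_mem _ hi)) (rf (rv (gi j)) x)
      ((v.sm 8).sub (V3.lm (v.ip (R (gi j))) (R (gi j)))) (8 * k) (by
        rw [Ph_sub, Ph_sm, Ph_refl, rf_apply (gm j (hw j List.mem_cons_self)), h, ← algebraMap_smul ℍ[ℝ] k, qrefl_smul, algebraMap_smul,
          algebraMap_smul, smul_sub, mul_smul]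
        simp [rv])
    rw [List.length_cons, pow_succ, mul_assoc]
    exact this

theorem sq_one (w : List ℕ) : Abelianization.of (ev (fun j => rr (gi j)) w) ^ 2 = 1 := by
  induction w with
  | nil => simp
  | cons j w ih => rw [ev_cons, map_mul, mul_pow, ih, ← map_pow, sq, show rr (gi j) * rr (gi j) = 1 from Subtype.ext (rf_sq _)]; simp

def u : List ℕ := wpow [0, 1, 2, 3, 0, 1, 3, 2] 3

theorem lok : LoK Spor.J2 2 := by
  have h1 : ev (fun j => rr (gi j)) (u ++ u) ∈ Subgroup.center twoJ2 :=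
    (QuotientGroup.eq_one_iff _).mp ((ev_map (QuotientGroup.mk' _) _ _).trans (md0.eq (w := []) (by decide +kernel)))
  have h2 := (ctr_eq h1).resolve_left fun e => by
    have := F_ok (u ++ u) (by decide) p1 (R (gi 2)) 1 (one_smul _ _).symm
    rw [e, mul_one] at this
    exact absurd (Ph_inj (this.trans (by rw [Ph_sm]; norm_num [u, wpow]; rfl))) (by decide +kernel : F (u ++ u) (R (gi 2)) ≠ (R (gi 2)).sm (8 ^ 48))
  refine lok_of (ξ := QuotientGroup.mk' (Subgroup.center twoJ2)) ⟨QuotientGroup.mk'_surjective _, (QuotientGroup.ker_mk' _).le⟩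
    (x := zz) ⟨(QuotientGroup.ker_mk' _).ge zz.2, ?_⟩ (orderOf_eq_prime ?_ fun e => zz_ne (Subtype.ext e)).symm.dvd
  · rw [← h2, ← Abelianization.ker_of]
    exact MonoidHom.mem_ker.mpr (by rw [ev_append, map_mul, ← sq, sq_one])
  · exact Subtype.ext (Equiv.ext fun x => Subtype.ext (neg_neg x.1))

end Cfsg.Agent.Ct.J2
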